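import Groth.Prelude.Def_ModSt
import Groth.Agent.AlgStB.OpenSubstack
import Groth.Agent.QCohBase.FiniteTypePullback
import Groth.Agent.FlatOverBC.Scheme

/-!
# The category of modules on base changes is fibred in groupoids
-/

set_option autoImplicit false
set_option backward.isDefEq.respectTransparency false
set_option backward.isDefEq.respectTransparency.types false

universe u

open CategoryTheory CategoryTheory.Limits AlgebraicGeometry Opposite TopologicalSpace

namespace Groth.Agent.ModStA

/-- Inverse images of finitely presented modules are finitely presented. -/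
theorem isFP_pullback {X Y : Scheme.{u}} (g : X ⟶ Y) {M : Y.Modules} (hM : CohB1.IsFP M) :
    CohB1.IsFP ((Scheme.Modules.pullback g).obj M) := by
  obtain ⟨σ, hσ⟩ := hM
  have hcov : iSup σ.X = ⊤ := (Opens.coversTop_iff _ _).1 σ.coversTop
  have hloc : ∀ x : X, ∃ U : X.Opens, x ∈ U ∧ ∃ P : SheafOfModules.Presentation
      (SheafOfModules.over ((Scheme.Modules.pullback g).obj M) U),
      Finite P.generators.I ∧ Finite P.relations.I := by
    intro x
    obtain ⟨i, hi⟩ := Opens.mem_iSup.1 (hcov.ge (Opens.mem_top (g x)))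
    let W : Y.Opens := σ.X i
    let F : SheafOfModules.{u} (Y.ringCatSheaf.over W) ⥤
        SheafOfModules.{u} ((W : Scheme.{u})).ringCatSheaf :=
      (Scheme.Modules.overEquiv W).functor
    haveI : PreservesColimitsOfSize.{u, u} F :=
      inferInstanceAs (PreservesColimitsOfSize.{u, u} (Scheme.Modules.overEquiv W).functor)
    let iso : SheafOfModules.overFunctor Y.ringCatSheaf W ⋙ F ≅
        Scheme.Modules.restrictFunctor W.ι := Scheme.Modules.overFunctorEquiv W
    let η : F.obj (SheafOfModules.unit (Y.ringCatSheaf.over W)) ≅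
        SheafOfModules.unit (W : Scheme.{u}).ringCatSheaf :=
      iso.app (SheafOfModules.unit Y.ringCatSheaf) ≪≫ Scheme.Modules.restrictUnitIso W.ι
    let P₁ := SheafOfModules.Presentation.ofIsIso.{u, u, u} (iso.app M).hom
      ((σ.presentation i).map F η.symm)
    let G : SheafOfModules.{u} (W : Scheme.{u}).ringCatSheaf ⥤
        SheafOfModules.{u} ((g ⁻¹ᵁ W : X.Opens) : Scheme.{u}).ringCatSheaf :=
      Scheme.Modules.pullback (g ∣_ W)
    haveI : PreservesColimitsOfSize.{u, u} G :=
      inferInstanceAs (PreservesColimitsOfSize.{u, u} (Scheme.Modules.pullback (g ∣_ W)))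
    let P₂ : (((Scheme.Modules.pullback g).obj M).restrict (g ⁻¹ᵁ W).ι).Presentation :=
      SheafOfModules.Presentation.ofIsIso.{u, u, u} (TensorMod.pullbackRestrictIso g W M).inv
        (P₁.map G (PicLoc.pullbackStructureIso (g ∣_ W)).symm)
    refine ⟨g ⁻¹ᵁ W, hi, QCohBase.presentationOver (g ⁻¹ᵁ W) P₂, ?_, ?_⟩
    · exact (hσ.isFinite_presentation i).isFiniteType_generators.finite
    · exact (hσ.isFinite_presentation i).isFiniteType_relations.finite
  choose U hU P hP using hloc
  let τ : SheafOfModules.QuasicoherentData.{u, u, u} ((Scheme.Modules.pullback g).obj M) :=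
           { I := X,
             X := U,
             coversTop := (Opens.coversTop_iff X.toTopCat _).2
              (top_le_iff.1 fun x _ => Opens.mem_iSup.2 ⟨x, hU x⟩),
             presentation := P }
  constructor
  refine ⟨τ, ?_⟩
  constructor
  exact fun x => { isFiniteType_generators := { finite := (hP x).1 },
                   isFiniteType_relations := { finite := (hP x).2 } }

variable {X S : Scheme.{u}} {f : X ⟶ S}

/-- the unit of the adjunction is cartesian -/
theorem isCart_unit {Y Z : Scheme.{u}} (h : Y ⟶ Z) (N : Z.Modules) :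
    ModSt.IsCart h ((Scheme.Modules.pullbackPushforwardAdjunction h).unit.app N) := fun M' =>
  ((Scheme.Modules.pullbackPushforwardAdjunction h).homEquiv N M').bijective

/-- a cartesian comparison map identifies the module with the inverse image -/
theorem exists_iso_of_isCart {Y Z : Scheme.{u}} (h : Y ⟶ Z) {N : Z.Modules} {M : Y.Modules}
    {c : N ⟶ (Scheme.Modules.pushforward h).obj M} (hc : ModSt.IsCart h c) :
    Nonempty ((Scheme.Modules.pullback h).obj N ≅ M) := by
  let adj := Scheme.Modules.pullbackPushforwardAdjunction h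
  let η := adj.unit.app N
  obtain ⟨v, hv⟩ := (hc ((Scheme.Modules.pullback h).obj N)).2 η
  obtain ⟨w, hw⟩ := (isCart_unit h N M).2 c
  refine ⟨⟨w, v, (isCart_unit h N _).1 ?_, (hc M).1 ?_⟩⟩
  · simp only at hv hw ⊢
    rw [Functor.map_comp, reassoc_of% hw, hv, CategoryTheory.Functor.map_id]
    exact (Category.comp_id _).symm
  · simp only at hv hw ⊢
    rw [Functor.map_comp, reassoc_of% hv, hw, CategoryTheory.Functor.map_id]
    exact (Category.comp_id _).symm

theorem heq_push {Y Z : Scheme.{u}} {M : Y.Modules} {t t' : Y ⟶ Z} (e : t = t') (U : Z.Opens)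
    (x : Γ((Scheme.Modules.pushforward t).obj M, U)) :
    HEq x (Scheme.Modules.Hom.app ((Scheme.Modules.pushforwardCongr e).hom.app M) U x) := by
  subst e
  rw [Scheme.Modules.pushforwardCongr_hom_app_app]
  simp

theorem isFibGrpd_fam : FibCat.IsFibGrpd (ModSt.Fam f).p where
  exists_lift {A V} g := by
    let q₀ : V.left ⟶ A.base.left := g.left
    let t := pullback.fst A.q q₀
    have sq : IsPullback t (pullback.snd A.q q₀) A.q q₀ := IsPullback.of_hasPullback _ _
    have sq2 : IsPullback (t ≫ A.p) (pullback.snd A.q q₀) f V.hom := by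
      have h := sq.paste_horiz A.isPullback
      rwa [show q₀ ≫ A.base.hom = V.hom from Over.w g] at h
    let B : ModSt.Obj f := ⟨V, pullback A.q q₀, t ≫ A.p, pullback.snd A.q q₀, sq2,
      (Scheme.Modules.pullback t).obj A.E⟩
    let φ : B ⟶ A := ⟨g, t, rfl, sq.w, _, isCart_unit t A.E⟩
    exact ⟨B, φ, IsHomLift.map (ModSt.Obj.forget f) φ⟩
  isStronglyCartesian {B A} φ := by
    refine { universal_property' := ?_ }
    intro D g ψ hψ
    have hb : ψ.base = g ≫ φ.base := by
      have h := IsHomLift.fac' (ModSt.Obj.forget f) (g ≫ (ModSt.Obj.forget f).map φ) ψ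
      simpa [ModSt.Obj.forget] using h
    have sq := φ.isPullback_top
    let t : D.XT ⟶ B.XT := sq.lift ψ.top (D.q ≫ g.left) (by
      rw [ψ.w_q, Category.assoc, hb]; rfl)
    have ht1 : t ≫ φ.top = ψ.top := sq.lift_fst _ _ _
    have ht2 : t ≫ B.q = D.q ≫ g.left := sq.lift_snd _ _ _
    let cc := Scheme.Modules.pushforwardComp t φ.top ≪≫ Scheme.Modules.pushforwardCongr ht1
    obtain ⟨c, hc⟩ := (φ.cart ((Scheme.Modules.pushforward t).obj D.E)).2 (ψ.c ≫ cc.inv.app D.E)
    simp only at hc
    have hcart : ModSt.IsCart t c := by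
      intro M'
      have hcomp : (fun v : D.E ⟶ M' => c ≫ (Scheme.Modules.pushforward t).map v) =
          (Equiv.ofBijective _ (φ.cart ((Scheme.Modules.pushforward t).obj M'))).symm ∘
            (cc.app M').homToEquiv.symm ∘
            (fun v : D.E ⟶ M' => ψ.c ≫ (Scheme.Modules.pushforward ψ.top).map v) := by
        funext v
        simp only [Function.comp_apply]
        rw [Equiv.eq_symm_apply]
        change φ.c ≫ (Scheme.Modules.pushforward φ.top).map (c ≫ _) = (ψ.c ≫ _) ≫ cc.inv.app M'
        rw [Functor.map_comp, reassoc_of% hc, Category.assoc]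
        exact congrArg (ψ.c ≫ ·) (cc.inv.naturality v).symm
      rw [hcomp]
      exact (Equiv.bijective _).comp ((Equiv.bijective _).comp (ψ.cart M'))
    have wp : t ≫ B.p = D.p := by rw [← φ.w_p, reassoc_of% ht1, ψ.w_p]
    let χ : D ⟶ B := ⟨g, t, wp, ht2, c, hcart⟩
    have hcomp : χ ≫ φ = ψ := by
      refine ModSt.Obj.Hom.ext' hb.symm ht1 fun U x => ?_
      have h := congrArg (fun m => (cc.hom.app D.E).app U
        (Scheme.Modules.Hom.app m U x)) hc
      refine (heq_push ht1 U _).trans (heq_of_eq ?_)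
      have hid : ∀ m : A.E ⟶ (Scheme.Modules.pushforward ψ.top).obj D.E,
          (cc.hom.app D.E).app U ((m ≫ cc.inv.app D.E).app U x) = m.app U x := by
        intro m
        have h2 : (m ≫ cc.inv.app D.E) ≫ cc.hom.app D.E = m := by
          rw [Category.assoc, Iso.inv_hom_id_app]; exact Category.comp_id m
        exact congrArg (fun m' => Scheme.Modules.Hom.app m' U x) h2
      exact h.trans (hid ψ.c)
    refine ⟨χ, ⟨IsHomLift.map (ModSt.Obj.forget f) χ, hcomp⟩, ?_⟩
    rintro χ' ⟨hχ', hχ''⟩
    have hbase : χ'.base = g := (IsHomLift.eq_of_isHomLift (ModSt.Obj.forget f) g χ').symm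
    obtain ⟨b', t', wp', wq', c', hcart'⟩ := χ'
    obtain rfl : b' = g := hbase
    obtain rfl : t' = t := by
      refine sq.hom_ext ?_ ?_
      · rw [ht1]; exact congrArg ModSt.Obj.Hom.top hχ''
      · rw [ht2]; exact wq'
    suffices hcc : c' = c by subst hcc; rfl
    refine (φ.cart ((Scheme.Modules.pushforward t).obj D.E)).1 ?_
    change φ.c ≫ (Scheme.Modules.pushforward φ.top).map c' =
      φ.c ≫ (Scheme.Modules.pushforward φ.top).map c
    refine Scheme.Modules.hom_ext _ _ fun U => ?_
    ext x
    have h1 : HEq ((φ.c ≫ (Scheme.Modules.pushforward φ.top).map c').app U x)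
        (ψ.c.app U x) := by
      rw [← hχ'']; rfl
    have h2 : HEq ((φ.c ≫ (Scheme.Modules.pushforward φ.top).map c).app U x) (ψ.c.app U x) := by
      rw [← hcomp]; rfl
    exact eq_of_heq (h1.trans h2.symm)

theorem isFlatOver_of_hom {A B : ModSt.Obj f} (φ : A ⟶ B) (h : FlatMod.IsFlatOver B.q B.E) :
    FlatMod.IsFlatOver A.q ((Scheme.Modules.pullback φ.top).obj B.E) :=
  fun x => FlatOverBC.isFlatOverAt_baseChange φ.isPullback_top B.E x (h (φ.top x))

end Groth.Agent.ModStA


namespace Groth.Agent.ModStA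

theorem isFlatOver_of_iso {X S : Scheme.{u}} (q : X ⟶ S) {M N : X.Modules} (e : M ≅ N)
    (h : FlatMod.IsFlatOver q M) : FlatMod.IsFlatOver q N := fun x => by
  let l : M.presheaf.stalk x ≃ₗ[X.presheaf.stalk x] N.presheaf.stalk x :=
    ((DerSch.stalkFunctor X x).mapIso e).toLinearEquiv
  letI := FlatMod.moduleStalkOver q M x
  letI := FlatMod.moduleStalkOver q N x
  haveI : Module.Flat (S.presheaf.stalk (q.base x)) (M.presheaf.stalk x) := h x
  exact Module.Flat.of_linearEquiv
    ({ l.symm.toAddEquiv with map_smul' := fun r m => l.symm.map_smul ((q.stalkMap x).hom r) m } :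
      N.presheaf.stalk x ≃ₗ[S.presheaf.stalk (q.base x)] M.presheaf.stalk x)

theorem isFP_of_iso {X : Scheme.{u}} {M N : X.Modules} (e : M ≅ N) (h : CohB1.IsFP M) :
    CohB1.IsFP N :=
  ObjectProperty.prop_of_iso (SheafOfModules.isFinitePresentation X.ringCatSheaf) e h

theorem isFibGrpd_coh {X S : Scheme.{u}} (f : X ⟶ S) : FibCat.IsFibGrpd (ModSt.Coh f).p :=
  AlgStB.isFibGrpd_fullSub isFibGrpd_fam fun {A B} φ ⟨hflat, hfp⟩ => by
    obtain ⟨e⟩ := exists_iso_of_isCart φ.top φ.cart
    exact ⟨isFlatOver_of_iso A.q e (isFlatOver_of_hom φ hflat),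
      isFP_of_iso e (isFP_pullback φ.top hfp)⟩

end Groth.Agent.ModStA
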